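import Cfsg.Agent.H495.TI.Types
import Cfsg.Agent.H66.Cod.Defs
import Cfsg.Agent.Characters.Core
import Cfsg.Agent.H686.CharKit
import Mathlib.NumberTheory.LegendreSymbol.AddCharacter

/-!
# No degree `(9^n-1)/4` for `PSp_2n(3)`: assembly (helper495)
-/

set_option autoImplicit false
open Matrix Module

namespace Cfsg.Agent.H495.TI

open Cfsg Cfsg.Agent.H162.Weil Cfsg.Agent.H66.Cod Cfsg.Agent.H686.CharKit

/-- the hyperbolic case is impossible -/
def HypNo (F : Type) [Field F] [Fintype F] : Prop :=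
  ∀ (n : ℕ) (V : Type) [AddCommGroup V] [Module ℂ V] [FiniteDimensional ℂ V]
    (ρ : Representation ℂ (Sp n F) V) (ψ : AddChar F ℂ), ψ.IsPrimitive → 3 ≤ n →
    ρ.IsIrreducible → (∀ v, ρ (zz n F) v = v) → 4 * finrank ℂ V + 1 = 9 ^ n →
    ∀ i k : Fin n, i ≠ k →
    finrank ℂ (Wt ρ ψ (TU 1 (-1) (Pi.single i 1) (Pi.single k 1))) = 1 →
    (∀ w ∈ Wt ρ ψ (TU 1 1 (Pi.single i 1) (Pi.single k 1)), w = 0) → False

/-- the anisotropic case is impossible -/
def AnisoNo (F : Type) [Field F] [Fintype F] : Prop :=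
  ∀ (n : ℕ) (V : Type) [AddCommGroup V] [Module ℂ V] [FiniteDimensional ℂ V]
    (ρ : Representation ℂ (Sp n F) V) (ψ : AddChar F ℂ), ψ.IsPrimitive → 3 ≤ n →
    ρ.IsIrreducible → (∀ v, ρ (zz n F) v = v) → 4 * finrank ℂ V + 1 = 9 ^ n →
    ∀ i k : Fin n, i ≠ k →
    (∃ v ∈ Wt ρ ψ (TU 1 1 (Pi.single i 1) (Pi.single k 1)), v ≠ 0) →
    (∀ w ∈ Wt ρ ψ (TU 1 (-1) (Pi.single i 1) (Pi.single k 1)), w = 0) → False

theorem psp_no_of (F : Type) [Field F] [Fintype F] (hF : Fintype.card F = 3) (H1 : HypNo F)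
    (H2 : AnisoNo F) {n : ℕ} (hn : 3 ≤ n) {d : ℕ} (hd : NDeg (PSp n F) d) :
    4 * d ≠ 9 ^ n - 1 := by
  classical
  intro hE
  obtain ⟨χ, -, hd⟩ := hd
  let f : Sp n F →* PSp n F := QuotientGroup.mk' _
  have hf : Function.Surjective f := QuotientGroup.mk'_surjective _
  have : Finite (PSp n F) := Finite.of_surjective f hf
  obtain ⟨k, ρ0, hρ0, hχ⟩ := χ.2
  have hirr : IsIrrCharacter (Sp n F) ((χ : PSp n F → ℂ) ∘ f) :=
    Characters.Core.isIrr_comp f hf χ.2
  let ρ : Representation ℂ (Sp n F) (Fin k → ℂ) := ρ0.comp f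
  have hρ : ρ.IsIrreducible := by
    have hnt : Nontrivial (Subrepresentation (ρ0.comp f)) := by
      obtain ⟨a, b, hab⟩ := hρ0.toNontrivial
      refine ⟨⟨a.toSubmodule, fun g v hv => a.apply_mem_toSubmodule (f g) hv⟩,
        ⟨b.toSubmodule, fun g v hv => b.apply_mem_toSubmodule (f g) hv⟩, fun h => hab ?_⟩
      apply Subrepresentation.toSubmodule_injective
      exact congrArg (Subrepresentation.toSubmodule (ρ := ρ0.comp f)) h
    refine ⟨fun a => ?_⟩
    have key : ∀ (g : PSp n F) ⦃v : Fin k → ℂ⦄, v ∈ a.toSubmodule → ρ0 g v ∈ a.toSubmodule := by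
      intro g v hv
      obtain ⟨h, rfl⟩ := hf g
      exact a.apply_mem_toSubmodule h hv
    rcases hρ0.eq_bot_or_eq_top ⟨a.toSubmodule, key⟩ with h | h
    · left
      apply Subrepresentation.toSubmodule_injective
      exact congrArg (Subrepresentation.toSubmodule (ρ := ρ0)) h
    · right
      apply Subrepresentation.toSubmodule_injective
      exact congrArg (Subrepresentation.toSubmodule (ρ := ρ0)) h
  have hz : ∀ v, ρ (zz n F) v = v := by
    intro v
    have hc : zz n F ∈ Subgroup.center (Sp n F) := by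
      rw [Subgroup.mem_center_iff]
      intro g
      exact (zz_comm g).symm
    have h1 : f (zz n F) = 1 := (QuotientGroup.eq_one_iff _).mpr hc
    show ρ0 (f (zz n F)) v = v
    rw [h1, map_one, Module.End.one_apply]
  have hk : finrank ℂ (Fin k → ℂ) = d := by
    have h1 := charDegree_irr χ
    rw [hd, ← hχ, Representation.char_one] at h1
    exact_mod_cast h1.symm
  have hpos : 1 ≤ 9 ^ n := Nat.one_le_pow _ _ (by norm_num)
  have hE' : 4 * finrank ℂ (Fin k → ℂ) + 1 = 9 ^ n := by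
    rw [hk]; omega
  have hψ := AddChar.FiniteField.primitiveChar_to_Complex_isPrimitive F
  have hik : (⟨0, by omega⟩ : Fin n) ≠ ⟨1, by omega⟩ := by simp
  rcases split (ρ := ρ) hψ hF hn hρ hE' hik with ⟨h1, h2⟩ | ⟨h1, h2⟩
  · exact H1 n _ ρ _ hψ hn hρ hz hE' _ _ hik h1 h2
  · exact H2 n _ ρ _ hψ hn hρ hz hE' _ _ hik h1 h2

end Cfsg.Agent.H495.TI
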