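import Cfsg.Agent.H495.TI.Asm

/-!
# The anisotropic case from the dimension bound (helper495)
-/

set_option autoImplicit false
open Matrix Module

namespace Cfsg.Agent.H495.TI

open Cfsg Cfsg.Agent.H162.Weil Cfsg.Agent.H66.Cod

/-- the dimension bound of the anisotropic case -/
def AnisoLe (F : Type) [Field F] [Fintype F] : Prop :=
  ∀ (m : ℕ) (V : Type) [AddCommGroup V] [Module ℂ V] [FiniteDimensional ℂ V]
    (ρ : Representation ℂ (Sp (m + 1) F) V) (ψ : AddChar F ℂ), ψ.IsPrimitive → 2 ≤ m →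
    ρ.IsIrreducible → (∀ v, ρ (zz (m + 1) F) v = v) → RkTwo ρ ψ →
    (∀ w ∈ Wt ρ ψ (TU 1 (-1) (Pi.single 0 1) (Pi.single 1 1)), w = 0) →
    (∃ v ∈ Wt ρ ψ (TU 1 1 (Pi.single 0 1) (Pi.single 1 1)), v ≠ 0) →
    finrank ℂ V ≤ 2 * 3 ^ m * (3 ^ m + 1)

theorem anisoNo_of_le (F : Type) [Field F] [Fintype F] (hF : Fintype.card F = 3)
    (H : AnisoLe F) : AnisoNo F := by
  intro n V _ _ _ ρ ψ hψ hn hρ hz hE i k hik hv hw
  obtain ⟨m, rfl⟩ : ∃ m, n = m + 1 := ⟨n - 1, by omega⟩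
  have h01 : (0 : Fin (m + 1)) ≠ 1 := by
    obtain ⟨l, rfl⟩ : ∃ l, m = l + 1 := ⟨m - 1, by omega⟩
    exact Fin.zero_ne_one
  obtain ⟨v, hv, hne⟩ := hv
  obtain ⟨h, hh⟩ := TU_move hik h01 (1 : F) 1
  obtain ⟨g, hg⟩ := TU_move h01 hik (1 : F) (-1)
  have hv' := mm_mem_Wt h hv
  rw [hh] at hv'
  have hle := H m V ρ ψ hψ (by omega) hρ hz (rkTwo hψ hF hn hE)
    (by
      intro w hw'
      have h1 := mm_mem_Wt g hw'
      rw [hg] at h1
      exact rho_inj (ρ := ρ) (mm g) (by rw [hw _ h1, map_zero]))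
    ⟨_, hv', by
      intro h0
      exact hne (rho_inj (ρ := ρ) (mm h) (by rw [h0, map_zero]))⟩
  have hX : 9 ≤ 3 ^ m := by
    calc 9 = 3 ^ 2 := by norm_num
      _ ≤ 3 ^ m := Nat.pow_le_pow_right (by norm_num) (by omega)
  have h9 : 9 ^ (m + 1) = 9 * (3 ^ m * 3 ^ m) := by
    rw [pow_succ, ← mul_pow]; norm_num; ring
  rw [h9] at hE
  nlinarith

/-- **T-I, `q = 3`.** -/
theorem psp_three_of (H1 : ∀ (F : Type) [Field F] [Fintype F], Fintype.card F = 3 → HypNo F)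
    (H2 : ∀ (F : Type) [Field F] [Fintype F], Fintype.card F = 3 → AnisoLe F) :
    ∀ {F : Type} [Field F] [Fintype F] {n d : ℕ}, Fintype.card F = 3 → 3 ≤ n →
      NDeg (PSp n F) d → 4 * d ≠ 9 ^ n - 1 := by
  intro F _ _ n d hF hn hd
  exact psp_no_of F hF (H1 F hF) (anisoNo_of_le F hF (H2 F hF)) hn hd

end Cfsg.Agent.H495.TI
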