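import Cfsg.Agent.H162.WeilBound
import Cfsg.Agent.H162.RkTwo

/-!
# Counting congruence classes over the field of three elements (helper495)
-/

set_option autoImplicit false
set_option linter.unusedSectionVars false
set_option linter.unusedSimpArgs false
open Matrix Module

namespace Cfsg.Agent.H495.TI

open Cfsg.Agent.H162.Weil

variable {F : Type*} [Field F] {n : ℕ} [Fintype F]

open Classical in
/-- The number of pairs giving the same symmetric matrix. -/
theorem card_fibre_conic (h2 : (2 : F) ≠ 0) {a b : F} (hb : b ≠ 0) (ha : a ≠ 0) {i j : Fin n}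
    (hij : i ≠ j) (T : Matrix (Fin n) (Fin n) F) :
    (Finset.univ.filter (fun s : {s : Fin 2 → Fin n → F // LinearIndependent F s} =>
      T2 n a b s.1 = T)).card ≤
      2 * (Finset.univ.filter (fun p : F × F => a * p.1 ^ 2 + b * p.2 ^ 2 = a)).card := by
  set A := Finset.univ.filter (fun s : {s : Fin 2 → Fin n → F // LinearIndependent F s} =>
      T2 n a b s.1 = T) with hA
  rcases A.eq_empty_or_nonempty with h | ⟨s0, hs0⟩
  · rw [h]; simp
  have hT0 : T2 n a b s0.1 = T := by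
    have := Finset.mem_filter.mp hs0
    exact this.2
  have hli : LinearIndependent F ![s0.1 0, s0.1 1] := by
    have h3 : ![s0.1 0, s0.1 1] = s0.1 := by
      ext k; fin_cases k <;> rfl
    rw [h3]; exact s0.2
  obtain ⟨P, hP0, hP1⟩ := exists_gl_pair hij hli
  set x0 : Fin n → F := ((P⁻¹ : GL (Fin n) F) : Matrix (Fin n) (Fin n) F) *ᵥ Pi.single i 1 with hx0
  set y0 : Fin n → F := ((P⁻¹ : GL (Fin n) F) : Matrix (Fin n) (Fin n) F) *ᵥ Pi.single j 1 with hy0
  have hPP : (P : Matrix (Fin n) (Fin n) F) * ((P⁻¹ : GL (Fin n) F) : Matrix (Fin n) (Fin n) F) = 1 := by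
    rw [← Units.val_mul, mul_inv_cancel, Units.val_one]
  have e00 : s0.1 0 ⬝ᵥ x0 = 1 := by
    rw [← hP0, hx0, ← dotProduct_mulVec, mulVec_mulVec, hPP, one_mulVec]; simp
  have e01 : s0.1 0 ⬝ᵥ y0 = 0 := by
    rw [← hP0, hy0, ← dotProduct_mulVec, mulVec_mulVec, hPP, one_mulVec]; simp [hij.symm, hij]
  have e10 : s0.1 1 ⬝ᵥ x0 = 0 := by
    rw [← hP1, hx0, ← dotProduct_mulVec, mulVec_mulVec, hPP, one_mulVec]; simp [hij.symm, hij]
  have e11 : s0.1 1 ⬝ᵥ y0 = 1 := by
    rw [← hP1, hy0, ← dotProduct_mulVec, mulVec_mulVec, hPP, one_mulVec]; simp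
  -- the facts for members of the fibre
  have facts : ∀ s : Fin 2 → Fin n → F, T2 n a b s = T →
      (a * (s 0 ⬝ᵥ x0)) • s 0 + (b * (s 1 ⬝ᵥ x0)) • s 1 = a • s0.1 0 ∧
      (a * (s 0 ⬝ᵥ y0)) • s 0 + (b * (s 1 ⬝ᵥ y0)) • s 1 = b • s0.1 1 := by
    intro s hs
    rw [← T2_mulVec, ← T2_mulVec, hs, ← hT0, T2_mulVec, T2_mulVec, e00, e01, e10, e11]
    constructor <;> simp
  have facts2 : ∀ s : Fin 2 → Fin n → F, T2 n a b s = T →
      a * (s 0 ⬝ᵥ x0) ^ 2 + b * (s 1 ⬝ᵥ x0) ^ 2 = a ∧
      a * (s 0 ⬝ᵥ x0) * (s 0 ⬝ᵥ y0) + b * (s 1 ⬝ᵥ x0) * (s 1 ⬝ᵥ y0) = 0 ∧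
      a * (s 0 ⬝ᵥ y0) ^ 2 + b * (s 1 ⬝ᵥ y0) ^ 2 = b := by
    intro s hs
    obtain ⟨h3, h4⟩ := facts s hs
    refine ⟨?_, ?_, ?_⟩
    · have := congrArg (fun w => w ⬝ᵥ x0) h3
      simp only [add_dotProduct, smul_dotProduct, smul_eq_mul, e00] at this
      linear_combination this
    · have := congrArg (fun w => w ⬝ᵥ y0) h3
      simp only [add_dotProduct, smul_dotProduct, smul_eq_mul, e01] at this
      linear_combination this
    · have := congrArg (fun w => w ⬝ᵥ y0) h4
      simp only [add_dotProduct, smul_dotProduct, smul_eq_mul, e11] at this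
      linear_combination this
  let φ : {s : Fin 2 → Fin n → F // LinearIndependent F s} → F × (F × F) := fun s =>
    ((s.1 0 ⬝ᵥ x0) * (s.1 1 ⬝ᵥ y0) - (s.1 0 ⬝ᵥ y0) * (s.1 1 ⬝ᵥ x0), (s.1 0 ⬝ᵥ x0, s.1 1 ⬝ᵥ x0))
  have hcard : (({1, -1} : Finset F) ×ˢ
      Finset.univ.filter (fun p : F × F => a * p.1 ^ 2 + b * p.2 ^ 2 = a)).card ≤
        2 * (Finset.univ.filter (fun p : F × F => a * p.1 ^ 2 + b * p.2 ^ 2 = a)).card := by
    rw [Finset.card_product]
    exact Nat.mul_le_mul Finset.card_le_two le_rfl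
  refine le_trans (Finset.card_le_card_of_injOn φ ?_ ?_) hcard
  · intro s hs
    have hs' : T2 n a b s.1 = T := by
      have := Finset.mem_filter.mp hs
      exact this.2
    obtain ⟨g1, g2, g3⟩ := facts2 s.1 hs'
    rw [Finset.mem_coe, Finset.mem_product]
    constructor
    · rw [Finset.mem_insert, Finset.mem_singleton]
      have h3 : a * b * (((s.1 0 ⬝ᵥ x0) * (s.1 1 ⬝ᵥ y0) - (s.1 0 ⬝ᵥ y0) * (s.1 1 ⬝ᵥ x0)) ^ 2) =
          a * b := by
        generalize s.1 0 ⬝ᵥ x0 = α at *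
        generalize s.1 0 ⬝ᵥ y0 = β at *
        generalize s.1 1 ⬝ᵥ x0 = γ at *
        generalize s.1 1 ⬝ᵥ y0 = δ at *
        linear_combination (a * β ^ 2 + b * δ ^ 2) * g1 - (a * α * β + b * γ * δ) * g2 + a * g3
      have h4 : ((s.1 0 ⬝ᵥ x0) * (s.1 1 ⬝ᵥ y0) - (s.1 0 ⬝ᵥ y0) * (s.1 1 ⬝ᵥ x0)) ^ 2 = 1 := by
        have := mul_ne_zero ha hb
        apply mul_left_cancel₀ this
        rw [h3, mul_one]
      have h5 : (((s.1 0 ⬝ᵥ x0) * (s.1 1 ⬝ᵥ y0) - (s.1 0 ⬝ᵥ y0) * (s.1 1 ⬝ᵥ x0)) - 1) *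
          (((s.1 0 ⬝ᵥ x0) * (s.1 1 ⬝ᵥ y0) - (s.1 0 ⬝ᵥ y0) * (s.1 1 ⬝ᵥ x0)) + 1) = 0 := by
        linear_combination h4
      rcases mul_eq_zero.mp h5 with h | h
      · exact Or.inl (by linear_combination h)
      · exact Or.inr (by linear_combination h)
    · rw [Finset.mem_filter]
      exact ⟨Finset.mem_univ _, g1⟩
  · intro s hs s' hs' hφ
    have hs1 : T2 n a b s.1 = T := (Finset.mem_filter.mp hs).2
    have hs2 : T2 n a b s'.1 = T := (Finset.mem_filter.mp hs').2
    have main : ∀ s : {s : Fin 2 → Fin n → F // LinearIndependent F s}, T2 n a b s.1 = T →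
        s.1 0 = (φ s).2.1 • s0.1 0 - (b / a * (φ s).2.2 * (φ s).1) • s0.1 1 ∧
        s.1 1 = ((φ s).2.1 * (φ s).1) • s0.1 1 + (φ s).2.2 • s0.1 0 := by
      intro s hs
      obtain ⟨g1, g2, g3⟩ := facts2 s.1 hs
      obtain ⟨f1, f2⟩ := facts s.1 hs
      simp only [φ]
      set α := s.1 0 ⬝ᵥ x0
      set β := s.1 0 ⬝ᵥ y0
      set γ := s.1 1 ⬝ᵥ x0
      set δ := s.1 1 ⬝ᵥ y0
      have E : (α * δ - β * γ) ^ 2 = 1 := by
        have := mul_ne_zero ha hb
        apply mul_left_cancel₀ this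
        linear_combination (a * β ^ 2 + b * δ ^ 2) * g1 - (a * α * β + b * γ * δ) * g2 + a * g3
      have D1 : a * δ = a * α * (α * δ - β * γ) := by linear_combination -δ * g1 + γ * g2
      have D2 : a * β = - b * γ * (α * δ - β * γ) := by linear_combination α * g2 - β * g1
      obtain ⟨ε, hε⟩ : ∃ ε, ε = α * δ - β * γ := ⟨_, rfl⟩
      rw [← hε] at D1 D2 E
      rw [← hε]
      have D1' : δ = α * ε := by
        apply mul_left_cancel₀ ha
        rw [D1]; ring
      constructor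
      · ext m
        have k1 := congrFun f1 m
        have k2 := congrFun f2 m
        simp only [Pi.add_apply, Pi.smul_apply, smul_eq_mul, Pi.sub_apply] at k1 k2 ⊢
        rw [D1'] at k2
        apply mul_left_cancel₀ ha
        have h5 : a * (α * s0.1 0 m - b / a * γ * ε * s0.1 1 m) =
          α * (a * s0.1 0 m) - γ * ε * (b * s0.1 1 m) := by field_simp
        rw [h5]
        linear_combination α * k1 - γ * ε * k2 - (s.1 0 m) * g1 + (s.1 0 m) * γ * ε * D2 +
          (b * α * γ * s.1 1 m - b * γ ^ 2 * s.1 0 m) * E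
      · ext m
        have k1 := congrFun f1 m
        have k2 := congrFun f2 m
        simp only [Pi.add_apply, Pi.smul_apply, smul_eq_mul, Pi.sub_apply] at k1 k2 ⊢
        rw [D1'] at k2
        apply mul_left_cancel₀ (mul_ne_zero ha hb)
        linear_combination a * α * ε * k2 + b * γ * k1 - b * s.1 1 m * g1 -
          a * b * α ^ 2 * s.1 1 m * E - a * α * ε * s.1 0 m * D2 + a * b * α * γ * s.1 0 m * E
    obtain ⟨m1, m2⟩ := main s hs1
    obtain ⟨m1', m2'⟩ := main s' hs2
    rw [← hφ] at m1' m2'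
    apply Subtype.ext
    ext k m
    fin_cases k
    · exact congrFun (m1.trans m1'.symm) m
    · exact congrFun (m2.trans m2'.symm) m


/-! ### The field of three elements -/

theorem three_cases (hF : Fintype.card F = 3) (x : F) : x = 0 ∨ x = 1 ∨ x = -1 := by
  have h := FiniteField.pow_card x
  rw [hF] at h
  have h1 : x * ((x - 1) * (x + 1)) = 0 := by linear_combination h
  rcases mul_eq_zero.mp h1 with h2 | h2
  · exact Or.inl h2
  rcases mul_eq_zero.mp h2 with h3 | h3
  · exact Or.inr (Or.inl (by linear_combination h3))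
  · exact Or.inr (Or.inr (by linear_combination h3))

theorem three_eq (hF : Fintype.card F = 3) : (3 : F) = 0 := by
  have h : ((Fintype.card F : ℕ) : F) = 0 := FiniteField.cast_card_eq_zero F
  rw [hF] at h
  exact_mod_cast h

theorem two_ne (hF : Fintype.card F = 3) : (2 : F) ≠ 0 := by
  intro h
  have h3 := three_eq hF
  have : (1 : F) = 0 := by linear_combination h3 - h
  exact one_ne_zero this

theorem sq_one (hF : Fintype.card F = 3) {x : F} (hx : x ≠ 0) : x ^ 2 = 1 := by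
  rcases three_cases hF x with h | h | h
  · exact absurd h hx
  · rw [h]; ring
  · rw [h]; ring

open Classical in
theorem conic_hyp (hF : Fintype.card F = 3) :
    (Finset.univ.filter (fun p : F × F => (1 : F) * p.1 ^ 2 + (-1) * p.2 ^ 2 = 1)).card ≤ 2 := by
  refine le_trans (Finset.card_le_card ?_) (Finset.card_le_two (a := ((1 : F), (0 : F)))
    (b := ((-1 : F), (0 : F))))
  rintro ⟨x, y⟩ h
  simp only [Finset.mem_filter, Finset.mem_univ, true_and] at h
  have hx : x ≠ 0 := by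
    rintro rfl
    by_cases hy : y = 0
    · subst hy
      simp at h
    · rw [sq_one hF hy] at h
      apply two_ne hF
      linear_combination -h
  have hx2 := sq_one hF hx
  have hy : y = 0 := by
    by_contra hy
    rw [hx2, sq_one hF hy] at h
    apply one_ne_zero (α := F)
    linear_combination -h
  subst hy
  rw [Finset.mem_insert, Finset.mem_singleton]
  rcases three_cases hF x with h3 | h3 | h3
  · exact absurd h3 hx
  · exact Or.inl (by rw [h3])
  · exact Or.inr (by rw [h3])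

theorem TU_eq_T2 (a b : F) (x y : Fin n → F) : TU a b x y = T2 n a b ![x, y] := by
  ext k l
  simp [TU_apply, T2, vecMulVec_apply]

open Classical in
/-- lower bound for the hyperbolic class -/
theorem card_hyp (hF : Fintype.card F = 3) (hn : 2 ≤ n) {i k : Fin n} (hik : i ≠ k) :
    (3 ^ n - 1) * (3 ^ n - 3) ≤
      4 * Nat.card (Ob (TU 1 (-1) (Pi.single i 1) (Pi.single k 1) : Matrix (Fin n) (Fin n) F)) := by
  have h2 := two_ne hF
  set T0 := (TU 1 (-1) (Pi.single i 1) (Pi.single k 1) : Matrix (Fin n) (Fin n) F) with hT0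
  have hmem : ∀ s : Fin 2 → Fin n → F, LinearIndependent F s →
      ∃ h : GL (Fin n) F, T2 n 1 (-1) s = actT h T0 := by
    intro s hs
    have hli : LinearIndependent F ![s 0, s 1] := by
      have h3 : ![s 0, s 1] = s := by
        ext k; fin_cases k <;> rfl
      rw [h3]; exact hs
    obtain ⟨P, hP0, hP1⟩ := exists_gl_pair hik hli
    refine ⟨P⁻¹, ?_⟩
    rw [hT0, actT_TU, inv_inv, hP0, hP1, TU_eq_T2]
    rfl
  have hsym : ∀ s : Fin 2 → Fin n → F, T2 n (1 : F) (-1) s ∈ Sym n F := by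
    intro s
    rw [mem_Sym, T2, transpose_add, transpose_smul, transpose_smul, transpose_vecMulVec,
      transpose_vecMulVec]
  let f : {s : Fin 2 → Fin n → F // LinearIndependent F s} → Ob T0 := fun s =>
    ⟨⟨T2 n 1 (-1) s.1, hsym s.1⟩, hmem s.1 s.2⟩
  have hc := Finset.card_le_mul_card_image (f := f) Finset.univ 4 (by
    intro b _
    have h4 := card_fibre_conic h2 (neg_ne_zero.mpr (one_ne_zero (α := F))) one_ne_zero hik b.1.1
    refine le_trans (Finset.card_le_card ?_) (h4.trans (Nat.mul_le_mul le_rfl (conic_hyp hF)))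
    intro s hs
    rw [Finset.mem_filter] at hs ⊢
    refine ⟨Finset.mem_univ _, ?_⟩
    have h3 := hs.2
    rw [← h3])
  have hcard : Nat.card {s : Fin 2 → Fin n → F // LinearIndependent F s} =
      (3 ^ n - 1) * (3 ^ n - 3) := by
    rw [card_linearIndependent (by simpa using hn)]
    simp [Fin.prod_univ_two, hF]
  rw [← hcard, Nat.card_eq_fintype_card, ← Finset.card_univ]
  refine hc.trans (Nat.mul_le_mul le_rfl ?_)
  rw [Nat.card_eq_fintype_card]
  exact Finset.card_le_univ _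

/-- lower bound for the anisotropic class -/
theorem card_aniso (hF : Fintype.card F = 3) (hn : 2 ≤ n) {i k : Fin n} (hik : i ≠ k) :
    (3 ^ n - 1) * (3 ^ n - 3) ≤
      8 * Nat.card (Ob (TU 1 1 (Pi.single i 1) (Pi.single k 1) : Matrix (Fin n) (Fin n) F)) := by
  have h := card_Ob (n := n) (two_ne hF) (by rw [hF]) hn
    (TU_mem 1 1 (Pi.single i 1) (Pi.single k 1) : TU (1 : F) 1 _ _ ∈ Sym n F)
    (x := i) (y := i) (z := k) (w := k) (by simp [TU_apply, hik, hik.symm])
  rw [hF] at h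
  exact h

/-! ### Rank at least three -/

open Classical in
theorem card_one_three {i j k : Fin n} (hij : i ≠ j) (hik : i ≠ k) (hjk : j ≠ k) :
    (Finset.univ.filter (fun p : Fin n → F => p i = 0 ∧ p j = 0 ∧ p k = 1)).card =
      Fintype.card F ^ (n - 3) := by
  have h1 : Finset.univ.filter (fun p : Fin n → F => p i = 0 ∧ p j = 0 ∧ p k = 1) =
      Fintype.piFinset (fun l => if l = i then {0} else if l = j then {0} else if l = k then {1}
        else Finset.univ) := by
    ext p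
    rw [Finset.mem_filter, Fintype.mem_piFinset]
    constructor
    · rintro ⟨_, h0, h1, h2⟩ l
      by_cases hl : l = i
      · subst hl; simpa using h0
      · by_cases hl' : l = j
        · subst hl'; simpa [hl] using h1
        · by_cases hl'' : l = k
          · subst hl''; simpa [hl, hl'] using h2
          · simp [hl, hl', hl'']
    · intro h
      have h3 := h i
      have h4 := h j
      have h5 := h k
      simp only [if_true, if_neg hij.symm, if_neg hik.symm, if_neg hjk.symm,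
        Finset.mem_singleton] at h3 h4 h5
      exact ⟨Finset.mem_univ _, h3, h4, h5⟩
  rw [h1, Fintype.card_piFinset, ← Finset.mul_prod_erase _ _ (Finset.mem_univ k),
    ← Finset.mul_prod_erase _ _ (Finset.mem_erase.mpr ⟨hjk, Finset.mem_univ j⟩),
    ← Finset.mul_prod_erase _ _ (Finset.mem_erase.mpr ⟨hij, Finset.mem_erase.mpr
      ⟨hik, Finset.mem_univ i⟩⟩),
    if_neg hik.symm, if_neg hjk.symm, if_pos rfl, if_neg hij.symm, if_pos rfl, if_pos rfl,
    Finset.card_singleton, Finset.card_singleton, one_mul, one_mul, one_mul]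
  rw [Finset.prod_congr rfl (g := fun _ => Fintype.card F), Finset.prod_const,
    Finset.card_erase_of_mem (Finset.mem_erase.mpr ⟨hij, Finset.mem_erase.mpr
      ⟨hik, Finset.mem_univ i⟩⟩),
    Finset.card_erase_of_mem (Finset.mem_erase.mpr ⟨hjk, Finset.mem_univ j⟩),
    Finset.card_erase_of_mem (Finset.mem_univ _), Finset.card_univ, Fintype.card_fin, Nat.sub_sub,
    Nat.sub_sub]
  intro l hl
  rw [Finset.mem_erase, Finset.mem_erase, Finset.mem_erase] at hl
  rw [if_neg hl.1, if_neg hl.2.1, if_neg hl.2.2.1, Finset.card_univ]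

/-- the matrix built from three vectors -/
def T4 (a : Fin n → F) (i j k : Fin n) (p r s : Fin n → F) : Matrix (Fin n) (Fin n) F :=
  (p i)⁻¹ • vecMulVec p p + (r j)⁻¹ • vecMulVec r r +
    (a i * a j * a k * p i * r j) • vecMulVec s s +
    ∑ l ∈ ((Finset.univ.erase i).erase j).erase k,
      a l • vecMulVec (Pi.single l 1) (Pi.single l 1)

theorem T4_sum_mulVec (a : Fin n → F) {i j k l : Fin n} (hl : l = i ∨ l = j ∨ l = k) :
    (∑ l ∈ ((Finset.univ.erase i).erase j).erase k, a l • vecMulVec (Pi.single l 1 : Fin n → F)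
      (Pi.single l 1)) *ᵥ (Pi.single l 1 : Fin n → F) = 0 := by
  rw [Matrix.sum_mulVec]
  apply Finset.sum_eq_zero
  intro t ht
  rw [Finset.mem_erase, Finset.mem_erase, Finset.mem_erase] at ht
  rw [smul_mulVec, vecMulVec_mulVec]
  have : t ≠ l := by
    rcases hl with rfl | rfl | rfl
    · exact ht.2.2.1
    · exact ht.2.1
    · exact ht.1
  simp [this]

theorem T4_inj {i j k : Fin n} {a : Fin n → F} (ha : a i * a j * a k ≠ 0)
    {p r s p' r' s' : Fin n → F}
    (hp : p i ≠ 0) (hr : r i = 0) (hrj : r j ≠ 0) (hsi : s i = 0) (hsj : s j = 0) (hsk : s k = 1)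
    (hp' : p' i ≠ 0) (hr' : r' i = 0) (hrj' : r' j ≠ 0) (hsi' : s' i = 0) (hsj' : s' j = 0)
    (hsk' : s' k = 1)
    (h : T4 a i j k p r s = T4 a i j k p' r' s') : p = p' ∧ r = r' ∧ s = s' := by
  have k1 : ∀ (p r s : Fin n → F), p i ≠ 0 → r i = 0 → r j ≠ 0 → s i = 0 → s j = 0 → s k = 1 →
      T4 a i j k p r s *ᵥ (Pi.single i 1 : Fin n → F) = p ∧
      T4 a i j k p r s *ᵥ (Pi.single j 1 : Fin n → F) = ((p i)⁻¹ * p j) • p + r ∧
      T4 a i j k p r s *ᵥ (Pi.single k 1 : Fin n → F) = ((p i)⁻¹ * p k) • p +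
        ((r j)⁻¹ * r k) • r + (a i * a j * a k * p i * r j) • s := by
    intro p r s hp hr hrj hsi hsj hsk
    refine ⟨?_, ?_, ?_⟩
    · rw [T4, add_mulVec, T4_sum_mulVec a (Or.inl rfl), add_mulVec, add_mulVec, smul_mulVec,
        smul_mulVec, smul_mulVec, vecMulVec_mulVec, vecMulVec_mulVec, vecMulVec_mulVec]
      ext m
      simp [hr, hsi]
      field_simp
    · rw [T4, add_mulVec, T4_sum_mulVec a (Or.inr (Or.inl rfl)), add_mulVec, add_mulVec,
        smul_mulVec, smul_mulVec, smul_mulVec, vecMulVec_mulVec, vecMulVec_mulVec,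
        vecMulVec_mulVec]
      ext m
      simp [hr, hsj]
      field_simp
    · rw [T4, add_mulVec, T4_sum_mulVec a (Or.inr (Or.inr rfl)), add_mulVec, add_mulVec,
        smul_mulVec, smul_mulVec, smul_mulVec, vecMulVec_mulVec, vecMulVec_mulVec,
        vecMulVec_mulVec]
      ext m
      simp [hsk]
      ring
  obtain ⟨e1, e2, e3⟩ := k1 p r s hp hr hrj hsi hsj hsk
  obtain ⟨e1', e2', e3'⟩ := k1 p' r' s' hp' hr' hrj' hsi' hsj' hsk'
  have hpp : p = p' := by rw [← e1, ← e1', h]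
  subst hpp
  rw [h, e2'] at e2
  have hrr : r = r' := (add_left_cancel e2).symm
  subst hrr
  rw [h, e3'] at e3
  have h5 := add_left_cancel e3
  refine ⟨rfl, rfl, ?_⟩
  have hne : a i * a j * a k * p i * r j ≠ 0 := mul_ne_zero (mul_ne_zero ha hp) hrj
  exact (smul_right_injective _ hne h5).symm

/-- `T4` is in the class -/
theorem T4_mem (h2 : (2 : F) ≠ 0) {a : Fin n → F} {i j k : Fin n} (hij : i ≠ j) (hik : i ≠ k)
    (hjk : j ≠ k) (hi : a i ≠ 0) (hj : a j ≠ 0) (hk : a k ≠ 0) {p r s : Fin n → F}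
    (hp : p i ≠ 0) (hr : r i = 0) (hrj : r j ≠ 0) (hsi : s i = 0) (hsj : s j = 0) (hsk : s k = 1) :
    ∃ h : GL (Fin n) F, T4 a i j k p r s = actT h (diagonal a) := by
  obtain ⟨g1, hg1⟩ := bin_step h2 hij a hi hj hp
  set a1 := Function.update (Function.update a i (p i)) j (a i * a j * p i) with ha1
  have h1j : a1 j ≠ 0 := by
    rw [ha1, Function.update_self]
    exact mul_ne_zero (mul_ne_zero hi hj) hp
  have h1k : a1 k ≠ 0 := by
    rw [ha1, Function.update_of_ne hjk.symm, Function.update_of_ne hik.symm]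
    exact hk
  obtain ⟨g2, hg2⟩ := bin_step h2 hjk a1 h1j h1k hrj
  set a2 := Function.update (Function.update a1 j (r j)) k (a1 j * a1 k * r j) with ha2
  have e2i : a2 i = p i := by
    rw [ha2, Function.update_of_ne hik, Function.update_of_ne hij, ha1, Function.update_of_ne hij,
      Function.update_self]
  have e2j : a2 j = r j := by
    rw [ha2, Function.update_of_ne hjk, Function.update_self]
  have e2k : a2 k = a i * a j * a k * p i * r j := by
    rw [ha2, Function.update_self, ha1, Function.update_self, Function.update_of_ne hjk.symm,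
      Function.update_of_ne hik.symm]
    ring
  have e2l : ∀ l, l ≠ i → l ≠ j → l ≠ k → a2 l = a l := by
    intro l h1 h2 h3
    rw [ha2, Function.update_of_ne h3, Function.update_of_ne h2, ha1, Function.update_of_ne h2,
      Function.update_of_ne h1]
  let w : Fin n → F := (p i)⁻¹ • p - Pi.single i 1
  let w' : Fin n → F := (r j)⁻¹ • r - Pi.single j 1
  let w'' : Fin n → F := s - Pi.single k 1
  have hw : w i = 0 := by simp [w, hp]
  have hw'j : w' j = 0 := by simp [w', hrj]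
  have hw'i : w' i = 0 := by simp [w', hr, hij]
  have hw''i : w'' i = 0 := by simp [w'', hsi, hik]
  have hw''j : w'' j = 0 := by simp [w'', hsj, hjk]
  have hw''k : w'' k = 0 := by simp [w'', hsk]
  let P1 : GL (Fin n) F := Cfsg.Agent.H162.Weil.rk (Pi.single i 1) w (by simp [hw])
  let P2 : GL (Fin n) F := Cfsg.Agent.H162.Weil.rk (Pi.single j 1) w' (by simp [hw'j])
  let P3 : GL (Fin n) F := Cfsg.Agent.H162.Weil.rk (Pi.single k 1) w'' (by simp [hw''k])
  refine ⟨(P3 * P2 * P1)⁻¹ * (g2 * g1), ?_⟩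
  rw [actT_mul, actT_mul, hg1, hg2, actT, inv_inv, diag_conj,
    ← Finset.add_sum_erase _ _ (Finset.mem_univ i),
    ← Finset.add_sum_erase _ _ (Finset.mem_erase.mpr ⟨hij.symm, Finset.mem_univ j⟩),
    ← Finset.add_sum_erase _ _ (Finset.mem_erase.mpr ⟨hjk.symm, Finset.mem_erase.mpr
      ⟨hik.symm, Finset.mem_univ k⟩⟩), T4]
  have hrow : ∀ l, ((P3 * P2 * P1 : GL (Fin n) F) : Matrix (Fin n) (Fin n) F) l =
      (Pi.single l 1 : Fin n → F) + (Pi.single l 1 : Fin n → F) i • w +
        (Pi.single l 1 : Fin n → F) j • w' + (Pi.single l 1 : Fin n → F) k • w'' := by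
    intro l
    rw [← single_vecMul_row l ((P3 * P2 * P1 : GL (Fin n) F) : Matrix (Fin n) (Fin n) F),
      Units.val_mul, Units.val_mul, ← vecMul_vecMul, ← vecMul_vecMul, rk_coe, rk_coe, rk_coe,
      vecMul_add, vecMul_one, vecMul_vecMulVec, vecMul_add, vecMul_one, vecMul_vecMulVec,
      vecMul_add, vecMul_one, vecMul_vecMulVec]
    ext m
    simp [hw'i, hw''i, hw''j]
    ring
  have r1 : ((P3 * P2 * P1 : GL (Fin n) F) : Matrix (Fin n) (Fin n) F) i = (p i)⁻¹ • p := by
    rw [hrow]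
    ext m
    simp [w, hij.symm, hik.symm]
  have r2 : ((P3 * P2 * P1 : GL (Fin n) F) : Matrix (Fin n) (Fin n) F) j = (r j)⁻¹ • r := by
    rw [hrow]
    ext m
    simp [w', hij, hjk.symm]
  have r3 : ((P3 * P2 * P1 : GL (Fin n) F) : Matrix (Fin n) (Fin n) F) k = s := by
    rw [hrow]
    ext m
    simp [w'', hik, hjk]
  have r4 : ∀ l, l ≠ i → l ≠ j → l ≠ k →
      ((P3 * P2 * P1 : GL (Fin n) F) : Matrix (Fin n) (Fin n) F) l = Pi.single l 1 := by
    intro l h1 h2 h3
    rw [hrow]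
    ext m
    simp [Ne.symm h1, Ne.symm h2, Ne.symm h3]
  rw [r1, r2, r3, e2i, e2j, e2k, ← add_assoc, ← add_assoc]
  congr 1
  · congr 1
    congr 1
    · ext x y
      simp [vecMulVec_apply]
      field_simp
    · ext x y
      simp [vecMulVec_apply]
      field_simp
  · apply Finset.sum_congr rfl
    intro l hl
    rw [Finset.mem_erase, Finset.mem_erase, Finset.mem_erase] at hl
    rw [r4 l hl.2.2.1 hl.2.1 hl.1, e2l l hl.2.2.1 hl.2.1 hl.1]

open Classical in
theorem card_three_lower (h2 : (2 : F) ≠ 0) {a : Fin n → F} {i j k : Fin n} (hij : i ≠ j)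
    (hik : i ≠ k) (hjk : j ≠ k) (hi : a i ≠ 0) (hj : a j ≠ 0) (hk : a k ≠ 0) :
    ((Fintype.card F - 1) * Fintype.card F ^ (n - 1)) *
      (((Fintype.card F - 1) * Fintype.card F ^ (n - 2)) * Fintype.card F ^ (n - 3)) ≤
      Nat.card (Ob (diagonal a)) := by
  rw [← card_ne i, ← card_ne_two hij, ← card_one_three hij hik hjk, ← Finset.card_product,
    ← Finset.card_product, Nat.card_eq_fintype_card, ← Finset.card_univ]
  have hex : ∀ p r s : Fin n → F, p i ≠ 0 → r i = 0 → r j ≠ 0 → s i = 0 → s j = 0 → s k = 1 →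
      ∃ S : Ob (diagonal a), S.1.1 = T4 a i j k p r s := by
    intro p r s hp hr hrj hsi hsj hsk
    obtain ⟨h, hh⟩ := T4_mem h2 hij hik hjk hi hj hk hp hr hrj hsi hsj hsk
    refine ⟨⟨⟨T4 a i j k p r s, ?_⟩, ⟨h, hh⟩⟩, rfl⟩
    rw [hh]
    exact actT_mem h (by rw [mem_Sym, diagonal_transpose])
  have hne : Nonempty (Ob (diagonal a)) :=
    ⟨⟨⟨diagonal a, by rw [mem_Sym, diagonal_transpose]⟩, 1, (actT_one _).symm⟩⟩
  let f : (Fin n → F) × ((Fin n → F) × (Fin n → F)) → Ob (diagonal a) := fun pr =>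
    if h : ∃ S : Ob (diagonal a), S.1.1 = T4 a i j k pr.1 pr.2.1 pr.2.2 then h.choose
    else hne.some
  refine Finset.card_le_card_of_injOn f (fun _ _ => Finset.mem_univ _) ?_
  have hf : ∀ p r s : Fin n → F, p i ≠ 0 → r i = 0 → r j ≠ 0 → s i = 0 → s j = 0 → s k = 1 →
      (f (p, (r, s))).1.1 = T4 a i j k p r s := by
    intro p r s hp hr hrj hsi hsj hsk
    have h := hex p r s hp hr hrj hsi hsj hsk
    have h3 : f (p, (r, s)) = h.choose := dif_pos h
    rw [h3]
    exact h.choose_spec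
  rintro ⟨p, r, s⟩ h ⟨p', r', s'⟩ h' hff
  simp only [Finset.coe_product, Set.mem_prod, Finset.coe_filter, Finset.mem_univ, true_and,
    Set.mem_ofPred_eq] at h h'
  obtain ⟨h1, ⟨h3, h4⟩, h5, h6, h7⟩ := h
  obtain ⟨h1', ⟨h3', h4'⟩, h5', h6', h7'⟩ := h'
  have e := hf p r s h1 h3 h4 h5 h6 h7
  have e' := hf p' r' s' h1' h3' h4' h5' h6' h7'
  rw [hff, e'] at e
  obtain ⟨a1, a2, a3⟩ := T4_inj (mul_ne_zero (mul_ne_zero hi hj) hk) h1' h3' h4' h5' h6' h7' h1 h3
    h4 h5 h6 h7 e
  rw [a1, a2, a3]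

end Cfsg.Agent.H495.TI
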