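import Cfsg.Agent.H495.TI.AsmB
import Cfsg.Agent.H66.TI.HypNo
import Cfsg.Agent.H162.AnisoD
import Cfsg.Agent.H78.Inc.Odd

/-!
# S4795, T-I: `q = 3`, the symplectic groups (helper495, with `HypNo` of helper66, `AnisoLe` of helper162)
-/

set_option autoImplicit false

namespace Cfsg.Agent.H495.TI

theorem psp_three : Cfsg.Agent.H78.Inc.PspThree :=
  psp_three_of (fun F _ _ hF => Cfsg.Agent.H66.TI.hypNo F hF) fun F _ _ hF => Cfsg.Agent.H162.Aniso.anisoLe F hF

end Cfsg.Agent.H495.TI
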