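import Cfsg.Agent.H495.TI.Count

/-!
# Nondegenerate ternary forms over the field of three elements (helper495)
-/

set_option autoImplicit false
set_option linter.unusedSectionVars false
set_option linter.unusedSimpArgs false
open Matrix Module

namespace Cfsg.Agent.H495.TI

open Cfsg.Agent.H162.Weil

/-- determinant polynomial of a symmetric `3 × 3` matrix -/
def dp {R : Type*} [CommRing R] (x : R × R × R × R × R × R) : R :=
  x.1 * x.2.1 * x.2.2.1 + 2 * (x.2.2.2.1 * x.2.2.2.2.1 * x.2.2.2.2.2) -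
    x.1 * x.2.2.2.2.2 ^ 2 - x.2.1 * x.2.2.2.2.1 ^ 2 - x.2.2.1 * x.2.2.2.1 ^ 2

set_option maxRecDepth 100000 in
theorem count_one : (Finset.univ.filter
    (fun x : ZMod 3 × ZMod 3 × ZMod 3 × ZMod 3 × ZMod 3 × ZMod 3 => dp x = 1)).card = 234 := by
  decide +kernel

set_option maxRecDepth 100000 in
theorem count_two : (Finset.univ.filter
    (fun x : ZMod 3 × ZMod 3 × ZMod 3 × ZMod 3 × ZMod 3 × ZMod 3 => dp x = -1)).card = 234 := by
  decide +kernel

variable {F : Type*} [Field F] [Fintype F]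

theorem actT_det {n : ℕ} (hF : Fintype.card F = 3) (h : GL (Fin n) F)
    (T : Matrix (Fin n) (Fin n) F) : (actT h T).det = T.det := by
  have h0 : ((h⁻¹ : GL (Fin n) F) : Matrix (Fin n) (Fin n) F).det ≠ 0 := by
    have := (GeneralLinearGroup.det h⁻¹).ne_zero
    rwa [GeneralLinearGroup.val_det_apply] at this
  rw [actT, det_mul, det_mul, det_transpose]
  have := sq_one hF h0
  linear_combination T.det * this

theorem nf3 (h2 : (2 : F) ≠ 0) (b : Fin 3 → F) (hb : ∀ i, b i ≠ 0) :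
    ∃ h : GL (Fin 3) F, actT h (diagonal b) = diagonal ![1, 1, b 0 * b 1 * b 2] := by
  obtain ⟨g1, hg1⟩ := bin_step h2 (show (0 : Fin 3) ≠ 1 by decide) b (hb 0) (hb 1)
    (one_ne_zero (α := F))
  have e1 : Function.update (Function.update b 0 1) 1 (b 0 * b 1 * 1) =
      ![1, b 0 * b 1, b 2] := by
    ext i
    fin_cases i <;> simp
  rw [e1] at hg1
  obtain ⟨g2, hg2⟩ := bin_step h2 (show (1 : Fin 3) ≠ 2 by decide) ![1, b 0 * b 1, b 2]
    (mul_ne_zero (hb 0) (hb 1)) (hb 2) (one_ne_zero (α := F))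
  have e2 : Function.update (Function.update ![1, b 0 * b 1, b 2] 1 1) 2
      ((![1, b 0 * b 1, b 2] : Fin 3 → F) 1 * (![1, b 0 * b 1, b 2] : Fin 3 → F) 2 * 1) =
      ![1, 1, b 0 * b 1 * b 2] := by
    ext i
    fin_cases i <;> simp
  rw [e2] at hg2
  exact ⟨g2 * g1, by rw [actT_mul, hg1, hg2]⟩

theorem mem_Ob_of_det (hF : Fintype.card F = 3) {a : Fin 3 → F} (ha : ∀ i, a i ≠ 0)
    {S : Sym 3 F} (hS : S.1.det = a 0 * a 1 * a 2) : S ∈ Ob (diagonal a) := by
  have h2 := two_ne hF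
  obtain ⟨h, b, hb⟩ := exists_diag h2 S.1 S.2
  have hd : b 0 * b 1 * b 2 = a 0 * a 1 * a 2 := by
    have := actT_det hF h S.1
    rw [hb, det_diagonal, Fin.prod_univ_three, hS] at this
    exact this
  have hb0 : b 0 * b 1 * b 2 ≠ 0 := by
    rw [hd]; exact mul_ne_zero (mul_ne_zero (ha 0) (ha 1)) (ha 2)
  have hbi : ∀ i, b i ≠ 0 := by
    intro i h0
    apply hb0
    fin_cases i
    · have h0' : b 0 = 0 := h0
      rw [h0']; ring
    · have h0' : b 1 = 0 := h0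
      rw [h0']; ring
    · have h0' : b 2 = 0 := h0
      rw [h0']; ring
  obtain ⟨g, hg⟩ := nf3 h2 b hbi
  obtain ⟨g', hg'⟩ := nf3 h2 a ha
  have h1 : Ob S.1 = Ob (diagonal a) := by
    rw [← Ob_congr h S.1, hb, ← Ob_congr g, hg, hd, ← hg', Ob_congr]
  rw [← h1]
  exact ⟨1, (actT_one _).symm⟩

/-- the symmetric matrix of a tuple -/
def mk3 (x : F × F × F × F × F × F) : Sym 3 F :=
  ⟨!![x.1, x.2.2.2.1, x.2.2.2.2.1; x.2.2.2.1, x.2.1, x.2.2.2.2.2;
      x.2.2.2.2.1, x.2.2.2.2.2, x.2.2.1], by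
    rw [mem_Sym]
    ext i j
    fin_cases i <;> fin_cases j <;> rfl⟩

theorem mk3_det (x : F × F × F × F × F × F) : (mk3 x).1.det = dp x := by
  rw [det_fin_three]
  simp [mk3, dp]
  ring

theorem mk3_inj : Function.Injective (mk3 : F × F × F × F × F × F → Sym 3 F) := by
  rintro ⟨a, b, c, d, e, f⟩ ⟨a', b', c', d', e', f'⟩ h
  have h1 := congrArg Subtype.val h
  have k : ∀ i j, (mk3 (a, b, c, d, e, f)).1 i j = (mk3 (a', b', c', d', e', f')).1 i j := by
    intro i j; rw [h1]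
  have e1 : a = a' := k 0 0
  have e2 : b = b' := k 1 1
  have e3 : c = c' := k 2 2
  have e4 : d = d' := k 0 1
  have e5 : e = e' := k 0 2
  have e6 : f = f' := k 1 2
  rw [e1, e2, e3, e4, e5, e6]

theorem card_nd3 (hF : Fintype.card F = 3) {a : Fin 3 → F} (ha : ∀ i, a i ≠ 0) :
    234 ≤ Nat.card (Ob (diagonal a)) := by
  classical
  let e : ZMod 3 ≃+* F := ZMod.ringEquivOfPrime F Nat.prime_three hF
  let E : ZMod 3 × ZMod 3 × ZMod 3 × ZMod 3 × ZMod 3 × ZMod 3 → F × F × F × F × F × F :=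
    fun x => (e x.1, e x.2.1, e x.2.2.1, e x.2.2.2.1, e x.2.2.2.2.1, e x.2.2.2.2.2)
  have hE : Function.Injective E := by
    rintro ⟨a, b, c, d, e', f⟩ ⟨a', b', c', d', e'', f'⟩ h
    simp only [E, Prod.mk.injEq, EmbeddingLike.apply_eq_iff_eq] at h
    obtain ⟨h1, h2, h3, h4, h5, h6⟩ := h
    rw [h1, h2, h3, h4, h5, h6]
  have hEd : ∀ x, dp (E x) = e (dp x) := by
    rintro ⟨a, b, c, d, e', f⟩
    have h2 : e 2 = 2 := map_ofNat e 2
    simp [dp, E, h2]
  obtain ⟨δ, hδ, hcard⟩ : ∃ δ : ZMod 3, e δ = a 0 * a 1 * a 2 ∧ (Finset.univ.filter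
    (fun x : ZMod 3 × ZMod 3 × ZMod 3 × ZMod 3 × ZMod 3 × ZMod 3 => dp x = δ)).card = 234 := by
    rcases three_cases hF (a 0 * a 1 * a 2) with h | h | h
    · exact absurd h (mul_ne_zero (mul_ne_zero (ha 0) (ha 1)) (ha 2))
    · exact ⟨1, by rw [map_one, h], count_one⟩
    · exact ⟨-1, by rw [map_neg, map_one, h], count_two⟩
  rw [← hcard, Nat.card_eq_fintype_card, ← Finset.card_univ]
  refine Finset.card_le_card_of_injOn (fun x => if h : dp x = δ then
    (⟨mk3 (E x), mem_Ob_of_det hF ha (by rw [mk3_det, hEd, h, hδ])⟩ : Ob (diagonal a)) else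
    ⟨⟨diagonal a, by rw [mem_Sym, diagonal_transpose]⟩, 1, (actT_one _).symm⟩)
    (fun _ _ => Finset.mem_univ _) ?_
  intro x hx y hy h
  have hx' : dp x = δ := by simpa using hx
  have hy' : dp y = δ := by simpa using hy
  simp only [hx', hy', dif_pos, Subtype.mk.injEq] at h
  exact hE (mk3_inj h)

end Cfsg.Agent.H495.TI

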