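import Cfsg.Agent.H495.TI.Three

/-!
# Types of weights of a representation of degree `(9^n-1)/4` (helper495)
-/

set_option autoImplicit false
set_option linter.unusedSectionVars false
set_option linter.unusedSimpArgs false
open Matrix Module

namespace Cfsg.Agent.H495.TI

open Cfsg.Agent.H162.Weil

variable {F : Type*} [Field F] {n : ℕ} [Fintype F] {V : Type*} [AddCommGroup V] [Module ℂ V]
  {ρ : Representation ℂ (Sp n F) V} {ψ : AddChar F ℂ}

/-- `3 × 3` minors of a matrix of rank two -/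
theorem minors_zero (a b : F) (x y : Fin n → F) (r c : Fin 3 → Fin n) :
    ((a • vecMulVec x x + b • vecMulVec y y : Matrix (Fin n) (Fin n) F).submatrix r c).det = 0 := by
  rw [det_fin_three]
  simp only [submatrix_apply, Matrix.add_apply, Matrix.smul_apply, vecMulVec_apply, smul_eq_mul]
  ring

theorem arith_four (m : ℕ) : ¬ (4 * (((3 - 1) * 3 ^ (m + 4 - 1)) *
    (((3 - 1) * 3 ^ (m + 4 - 2)) * 3 ^ (m + 4 - 3))) + 1 ≤ 9 ^ (m + 4)) := by
  have h1 : m + 4 - 1 = m + 3 := by omega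
  have h2 : m + 4 - 2 = m + 2 := by omega
  have h3 : m + 4 - 3 = m + 1 := by omega
  rw [h1, h2, h3]
  have h5 : (9 : ℕ) ^ (m + 4) = (3 ^ m * 3 ^ m) * 6561 := by
    rw [show (9 : ℕ) = 3 ^ 2 by norm_num, ← pow_mul]
    ring
  have h6 : 1 ≤ 3 ^ m := Nat.one_le_pow _ _ (by norm_num)
  have h7 : 4 * (((3 - 1) * 3 ^ (m + 3)) * (((3 - 1) * 3 ^ (m + 2)) * 3 ^ (m + 1))) =
      (3 ^ m * 3 ^ m) * (3 ^ m * 11664) := by
    rw [pow_add, pow_add, pow_add]
    ring
  rw [h5, h7]
  have h8 : 3 ^ m * 3 ^ m * 6561 ≤ 3 ^ m * 3 ^ m * (3 ^ m * 11664) :=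
    Nat.mul_le_mul le_rfl (by omega)
  omega

/-- **All weights have rank at most two.** -/
theorem rkTwo [FiniteDimensional ℂ V] (hψ : ψ.IsPrimitive) (hF : Fintype.card F = 3) (hn : 3 ≤ n)
    (hE : 4 * finrank ℂ V + 1 = 9 ^ n) : RkTwo ρ ψ := by
  classical
  intro T hT v hv hne r c
  by_contra hdet
  have h2 := two_ne hF
  obtain ⟨h, a, ha⟩ := exists_diag h2 T hT
  have hTa : T = actT h⁻¹ (diagonal a) := by rw [← ha, ← actT_mul, inv_mul_cancel, actT_one]
  have hle := card_Ob_le hψ h2 hT hv hne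
  rw [← Ob_congr h T, ha] at hle
  obtain ⟨i, j, k, hij, hik, hjk, hi, hj, hk⟩ : ∃ i j k, i ≠ j ∧ i ≠ k ∧ j ≠ k ∧
      a i ≠ 0 ∧ a j ≠ 0 ∧ a k ≠ 0 := by
    by_contra hc
    push Not at hc
    apply hdet
    obtain ⟨i, k, hik, hz⟩ : ∃ i k : Fin n, i ≠ k ∧ ∀ l, l ≠ i → l ≠ k → a l = 0 := by
      by_cases h0 : ∃ i, a i ≠ 0
      · obtain ⟨i, hi⟩ := h0
        by_cases h1 : ∃ k, i ≠ k ∧ a k ≠ 0
        · obtain ⟨k, hik, hk⟩ := h1
          refine ⟨i, k, hik, fun l hl hl' => ?_⟩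
          exact hc i k l hik hl.symm hl'.symm hi hk
        · push Not at h1
          obtain ⟨k, hk⟩ : ∃ k : Fin n, i ≠ k := by
            have : Nontrivial (Fin n) := Fin.nontrivial_iff_two_le.mpr (by omega)
            obtain ⟨k, hk⟩ := exists_ne i
            exact ⟨k, hk.symm⟩
          exact ⟨i, k, hk, fun l hl _ => h1 l hl.symm⟩
      · push Not at h0
        exact ⟨⟨0, by omega⟩, ⟨1, by omega⟩, by simp, fun l _ _ => h0 l⟩
    rw [hTa, actT, inv_inv, diag_conj, ← Finset.add_sum_erase _ _ (Finset.mem_univ i),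
      ← Finset.add_sum_erase _ _ (Finset.mem_erase.mpr ⟨hik.symm, Finset.mem_univ k⟩),
      Finset.sum_eq_zero, add_zero]
    · exact minors_zero _ _ _ _ r c
    · intro l hl
      rw [Finset.mem_erase, Finset.mem_erase] at hl
      rw [hz l hl.2.1 hl.1, zero_smul]
  obtain rfl | hn4 : n = 3 ∨ 4 ≤ n := by omega
  · have h3 : 234 ≤ Nat.card (Ob (diagonal a)) := by
      apply card_nd3 hF
      intro l
      fin_cases i <;> fin_cases j <;> fin_cases k <;> fin_cases l <;> simp_all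
    norm_num at hE
    omega
  · obtain ⟨m, rfl⟩ : ∃ m, n = m + 4 := ⟨n - 4, by omega⟩
    have h3 := card_three_lower h2 hij hik hjk hi hj hk
    rw [hF] at h3
    apply arith_four m
    rw [← hE]
    have := h3.trans hle
    omega

/-! ### Rank one -/

theorem fam_stable {lam : F} {f : (Fin n → F) → V} (hψ : ψ.IsPrimitive) (h2 : (2 : F) ≠ 0)
    (hlam : lam ≠ 0) (j : Fin n) (hf : Fam ρ ψ lam f) (g : Sp n F) :
    ∀ u ∈ Submodule.span ℂ (Set.range f), ρ g u ∈ Submodule.span ℂ (Set.range f) := by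
  have gen : ∀ g : Sp n F, (∀ x, ρ g (f x) ∈ Submodule.span ℂ (Set.range f)) →
      ∀ u ∈ Submodule.span ℂ (Set.range f), ρ g u ∈ Submodule.span ℂ (Set.range f) := by
    intro g hg u hu
    have h : Submodule.span ℂ (Set.range f) ≤ (Submodule.span ℂ (Set.range f)).comap (ρ g) := by
      rw [Submodule.span_le]
      rintro _ ⟨x, rfl⟩
      exact hg x
    exact h hu
  refine gen_induct j (P := fun g => ∀ u ∈ Submodule.span ℂ (Set.range f),
    ρ g u ∈ Submodule.span ℂ (Set.range f)) ?_ ?_ ?_ ?_ ?_ g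
  · intro u hu; simpa using hu
  · intro g h hg hh u hu
    rw [rho_mul]
    exact hg _ (hh u hu)
  · intro S
    refine gen _ fun x => ?_
    rw [hf.r1 x S]
    exact Submodule.smul_mem _ _ (Submodule.subset_span (Set.mem_range_self x))
  · intro h
    refine gen _ fun x => ?_
    rw [hf.r2 h x]
    exact Submodule.smul_mem _ _ (Submodule.subset_span (Set.mem_range_self _))
  · refine gen _ fun x => ?_
    have hg := gs_ne_zero hψ h2 (neg_ne_zero.mpr hlam)
    have h3 := hf.r3 j x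
    rw [← eq_inv_smul_iff₀ hg] at h3
    rw [h3]
    exact Submodule.smul_mem _ _ (Submodule.sum_mem _ fun z _ =>
      Submodule.smul_mem _ _ (Submodule.subset_span ⟨_, rfl⟩))

/-- Irreducible representations of rank at most one are small. -/
theorem rkOne_le [FiniteDimensional ℂ V] (hψ : ψ.IsPrimitive) (h2 : (2 : F) ≠ 0)
    (hn : 2 ≤ n) (hρ : ρ.IsIrreducible) (hR : RkOne ρ ψ) :
    finrank ℂ V ≤ Fintype.card F ^ n := by
  classical
  let i : Fin n := ⟨0, by omega⟩
  let j : Fin n := ⟨1, by omega⟩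
  have hij : i ≠ j := by intro h; simp [i, j] at h
  by_cases h0 : ∀ T ∈ Sym n F, T ≠ 0 → ∀ v ∈ Wt ρ ψ T, v = 0
  · rw [dim_one hψ h2 i hρ h0]
    exact Nat.one_le_pow _ _ Fintype.card_pos
  push Not at h0
  obtain ⟨T, hT, hT0, v, hv, hne⟩ := h0
  obtain ⟨p, q, hpq⟩ : ∃ p q, T p q ≠ 0 := by
    by_contra hc
    push Not at hc
    exact hT0 (by ext p q; exact hc p q)
  have hr := hR T hT v hv hne
  have hTs : ∀ a b, T a b = T b a := fun a b => Sym.apply ⟨T, hT⟩ a b
  have hk : T p p ≠ 0 := by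
    intro h
    have := hr p p q q
    rw [h, zero_mul, hTs q p] at this
    exact mul_ne_zero hpq hpq this.symm
  have hTT : T = TT (T p p)⁻¹ (fun l => T l p) := by
    ext a b
    rw [TT_apply, hTs b p, hr a p p b]
    field_simp
  have hx : (fun l => T l p : Fin n → F) ≠ 0 := by
    intro h
    exact hk (congrFun h p)
  obtain ⟨g, hg⟩ := exists_vecMul_eq_single _ hx i
  have h5 : ρ (mm g⁻¹) v ∈ Wt ρ ψ (TT (T p p)⁻¹ (Pi.single i 1)) := by
    rw [hTT] at hv
    have h5 := mm_mem_TT g⁻¹ hv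
    rwa [inv_inv, hg] at h5
  have hne' : ρ (mm g⁻¹) v ≠ 0 := by
    intro h
    exact hne (rho_inj (ρ := ρ) (mm g⁻¹) (by rw [h, map_zero]))
  have hs : Seed ρ ψ (T p p)⁻¹ i (ρ (mm g⁻¹) v) := ⟨hψ, h2, hR, inv_ne_zero hk, h5, hne'⟩
  obtain ⟨f, hf, hfv⟩ := hs.exists_fam hij
  have htop := eq_top_of_irr hρ _ (fun g => fam_stable hψ h2 (inv_ne_zero hk) j hf g)
    (Submodule.subset_span (Set.mem_range_self (Pi.single i 1))) (by rw [hfv]; exact hne')
  have h6 := finrank_range_le_card (R := ℂ) (b := f)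
  rw [Set.finrank, htop, finrank_top] at h6
  simpa using h6

/-! ### Rank two -/

theorem TU_diag {i k : Fin n} (hik : i ≠ k) (a : Fin n → F) (hz : ∀ l, l ≠ i → l ≠ k → a l = 0) :
    diagonal a = TU (a i) (a k) (Pi.single i 1) (Pi.single k 1) := by
  ext x y
  rw [TU_apply]
  by_cases hxy : x = y
  · subst hxy
    rw [diagonal_apply_eq]
    by_cases h1 : x = i
    · subst h1; simp [hik]
    · by_cases h2 : x = k
      · subst h2; simp [h1]
      · simp [h1, h2, hz x h1 h2]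
  · rw [diagonal_apply_ne _ hxy]
    have h1 : (Pi.single i 1 : Fin n → F) x * (Pi.single i 1 : Fin n → F) y = 0 := by
      by_cases h : x = i
      · subst h; simp [Ne.symm hxy]
      · simp [h]
    have h2 : (Pi.single k 1 : Fin n → F) x * (Pi.single k 1 : Fin n → F) y = 0 := by
      by_cases h : x = k
      · subst h; simp [Ne.symm hxy]
      · simp [h]
    rw [h1, h2]; ring

/-- pairs of axes can be moved -/
theorem TU_move {i k i' k' : Fin n} (hik : i ≠ k) (hik' : i' ≠ k') (a b : F) :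
    ∃ h : GL (Fin n) F, actT h (TU a b (Pi.single i 1) (Pi.single k 1)) =
      TU a b (Pi.single i' 1) (Pi.single k' 1) := by
  have hli : LinearIndependent F ![(Pi.single i 1 : Fin n → F), Pi.single k 1] := by
    rw [LinearIndependent.pair_iff]
    intro s t hst
    have h1 := congrFun hst i
    have h2 := congrFun hst k
    simp [hik, hik.symm] at h1 h2
    exact ⟨h1, h2⟩
  obtain ⟨P, hP0, hP1⟩ := exists_gl_pair hik' hli
  refine ⟨P, ?_⟩
  rw [actT_TU]
  rw [vecMul_inv hP0, vecMul_inv hP1]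

theorem class_two (hF : Fintype.card F = 3) (hR : RkTwo ρ ψ) {T : Matrix (Fin n) (Fin n) F}
    (hT : T ∈ Sym n F) {v : V} (hv : v ∈ Wt ρ ψ T) (hne : v ≠ 0) {x y z w : Fin n}
    (hm : T x y * T z w ≠ T x w * T z y) {i k : Fin n} (hik : i ≠ k) :
    ∃ h : GL (Fin n) F, actT h T = TU 1 1 (Pi.single i 1) (Pi.single k 1) ∨
      actT h T = TU 1 (-1) (Pi.single i 1) (Pi.single k 1) := by
  have h2 := two_ne hF
  obtain ⟨h, a, ha⟩ := exists_diag h2 T hT
  have hTa : T = actT h⁻¹ (diagonal a) := by rw [← ha, ← actT_mul, inv_mul_cancel, actT_one]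
  obtain ⟨p, q, hpq, hp, hq⟩ : ∃ p q, p ≠ q ∧ a p ≠ 0 ∧ a q ≠ 0 := by
    by_contra hc
    push Not at hc
    apply hm
    by_cases h0 : ∃ p, a p ≠ 0
    · obtain ⟨p, hp⟩ := h0
      rw [hTa, actT, inv_inv, diag_conj, ← Finset.add_sum_erase _ _ (Finset.mem_univ p),
        Finset.sum_eq_zero, add_zero]
      · simp only [Matrix.smul_apply, vecMulVec_apply, smul_eq_mul]
        ring
      · intro l hl
        rw [hc p l (Finset.ne_of_mem_erase hl).symm hp, zero_smul]
    · push Not at h0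
      have : a = 0 := funext h0
      rw [hTa, this]
      simp [actT]
  have hv' := mm_mem_Wt h hv
  rw [ha] at hv'
  have hne' : ρ (mm h) v ≠ 0 := by
    intro h0
    exact hne (rho_inj (ρ := ρ) (mm h) (by rw [h0, map_zero]))
  have hz : ∀ l, l ≠ p → l ≠ q → a l = 0 := by
    intro l hlp hlq
    have hd := hR (diagonal a) (by rw [mem_Sym, diagonal_transpose]) _ hv' hne' ![p, q, l]
      ![p, q, l]
    rw [det_fin_three] at hd
    simp [diagonal_apply, hpq, hpq.symm, hlp, hlq, Ne.symm hlp, Ne.symm hlq, hp, hq] at hd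
    exact hd
  obtain ⟨g, hg⟩ := bin_step h2 hpq a hp hq (one_ne_zero (α := F))
  have hz' : ∀ l, l ≠ p → l ≠ q →
      Function.update (Function.update a p 1) q (a p * a q * 1) l = 0 := by
    intro l h1 h3
    rw [Function.update_of_ne h3, Function.update_of_ne h1, hz l h1 h3]
  rw [TU_diag hpq _ hz', Function.update_self, Function.update_of_ne hpq, Function.update_self,
    mul_one] at hg
  obtain ⟨g', hg'⟩ := TU_move hpq hik (1 : F) (a p * a q)
  refine ⟨g' * g * h, ?_⟩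
  rw [actT_mul, actT_mul, ha, hg, hg']
  rcases three_cases hF (a p * a q) with h3 | h3 | h3
  · exact absurd h3 (mul_ne_zero hp hq)
  · left; rw [h3]
  · right; rw [h3]

/-! ### The dimension formula -/

/-- **Dimension formula.** -/
theorem finrank_eq_sum [FiniteDimensional ℂ V] (hψ : ψ.IsPrimitive) (h2 : (2 : F) ≠ 0) :
    finrank ℂ V = ∑ T : Sym n F, finrank ℂ (Wt ρ ψ T.1) := by
  have h1 : ∀ T : Sym n F, LinearMap.trace ℂ V (Pj ρ ψ T.1) = (finrank ℂ (Wt ρ ψ T.1) : ℂ) := by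
    intro T
    have h : LinearMap.IsProj (Wt ρ ψ T.1) (Pj ρ ψ T.1) := ⟨Pj_mem T.1, fun v hv => Pj_of_mem hv⟩
    exact h.trace
  have h3 : ∑ T : Sym n F, Pj ρ ψ T.1 = LinearMap.id := by
    apply LinearMap.ext
    intro v
    rw [LinearMap.sum_apply]
    exact sum_Pj hψ h2 v
  have h4 := congrArg (LinearMap.trace ℂ V) h3
  rw [map_sum, Finset.sum_congr rfl fun T _ => h1 T, LinearMap.trace_id] at h4
  exact_mod_cast h4.symm

theorem finrank_Wt_congr {T T' : Matrix (Fin n) (Fin n) F} {h : GL (Fin n) F}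
    (hh : T' = actT h T) : finrank ℂ (Wt ρ ψ T') = finrank ℂ (Wt ρ ψ T) := by
  subst hh
  symm
  refine LinearEquiv.finrank_eq
    { toFun := fun v => ⟨ρ (mm h) v.1, mm_mem_Wt h v.2⟩
      map_add' := fun v w => by apply Subtype.ext; simp
      map_smul' := fun a v => by apply Subtype.ext; simp
      invFun := fun v => ⟨ρ (mm h⁻¹) v.1, by
        have := mm_mem_Wt h⁻¹ v.2
        rwa [← actT_mul, inv_mul_cancel, actT_one] at this⟩
      left_inv := fun v => by
        apply Subtype.ext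
        show ρ (mm h⁻¹) (ρ (mm h) v.1) = v.1
        rw [← rho_mul, ← map_mul, inv_mul_cancel, map_one, map_one, Module.End.one_apply]
      right_inv := fun v => by
        apply Subtype.ext
        show ρ (mm h) (ρ (mm h⁻¹) v.1) = v.1
        rw [← rho_mul, ← map_mul, mul_inv_cancel, map_one, map_one, Module.End.one_apply] }

/-- two orbits -/
theorem two_orbits [FiniteDimensional ℂ V] (hψ : ψ.IsPrimitive) (h2 : (2 : F) ≠ 0)
    {T T' : Matrix (Fin n) (Fin n) F} (hdis : Disjoint (Ob T) (Ob T')) :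
    Nat.card (Ob T) * finrank ℂ (Wt ρ ψ T) + Nat.card (Ob T') * finrank ℂ (Wt ρ ψ T') ≤
      finrank ℂ V := by
  classical
  rw [finrank_eq_sum (ρ := ρ) hψ h2]
  have hs : ∀ T : Matrix (Fin n) (Fin n) F,
      ∑ S ∈ (Ob T).toFinset, finrank ℂ (Wt ρ ψ S.1) = Nat.card (Ob T) * finrank ℂ (Wt ρ ψ T) := by
    intro T
    rw [Finset.sum_congr rfl (g := fun _ => finrank ℂ (Wt ρ ψ T)), Finset.sum_const,
      Set.toFinset_card, Nat.card_eq_fintype_card, smul_eq_mul]
    intro S hS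
    rw [Set.mem_toFinset] at hS
    obtain ⟨h, hh⟩ := hS
    exact finrank_Wt_congr hh
  rw [← hs T, ← hs T', ← Finset.sum_union (Set.disjoint_toFinset.mpr hdis)]
  exact Finset.sum_le_sum_of_subset (Finset.subset_univ _)

/-- The two classes are different. -/
theorem aniso_hyp_disjoint (hF : Fintype.card F = 3) {i k : Fin n} (hik : i ≠ k) :
    Disjoint (Ob (TU 1 1 (Pi.single i 1) (Pi.single k 1) : Matrix (Fin n) (Fin n) F))
      (Ob (TU 1 (-1) (Pi.single i 1) (Pi.single k 1) : Matrix (Fin n) (Fin n) F)) := by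
  rw [Set.disjoint_left]
  rintro S ⟨h, hh⟩ ⟨g, hg⟩
  have h1 : TU 1 (-1) (Pi.single i 1) (Pi.single k 1) =
      actT (g⁻¹ * h) (TU 1 1 (Pi.single i 1) (Pi.single k 1) : Matrix (Fin n) (Fin n) F) := by
    rw [actT_mul, ← hh, hg, ← actT_mul, inv_mul_cancel, actT_one]
  rw [actT_TU] at h1
  set x := (Pi.single i 1 : Fin n → F) ᵥ*
    (((g⁻¹ * h)⁻¹ : GL (Fin n) F) : Matrix (Fin n) (Fin n) F)
  set y := (Pi.single k 1 : Fin n → F) ᵥ*
    (((g⁻¹ * h)⁻¹ : GL (Fin n) F) : Matrix (Fin n) (Fin n) F)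
  have e : ∀ p q, (TU 1 (-1) (Pi.single i 1) (Pi.single k 1) : Matrix (Fin n) (Fin n) F) p q =
      x p * x q + y p * y q := by
    intro p q
    rw [h1, TU_apply]; ring
  have e1 := e i i
  have e2 := e i k
  have e3 := e k k
  simp only [TU_apply, Pi.single_eq_same, Pi.single_eq_of_ne hik, Pi.single_eq_of_ne hik.symm]
    at e1 e2 e3
  have key : ∀ u v : F, u ^ 2 + v ^ 2 = 0 → u = 0 ∧ v = 0 := by
    intro u v huv
    by_cases hu : u = 0
    · subst hu
      refine ⟨rfl, ?_⟩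
      have : v ^ 2 = 0 := by linear_combination huv
      exact pow_eq_zero_iff (two_ne_zero) |>.mp this
    · exfalso
      by_cases hv : v = 0
      · subst hv
        apply hu
        have : u ^ 2 = 0 := by linear_combination huv
        exact pow_eq_zero_iff (two_ne_zero) |>.mp this
      · rw [sq_one hF hu, sq_one hF hv] at huv
        apply two_ne hF
        linear_combination huv
  obtain ⟨u0, v0⟩ := key (x i + x k) (y i + y k) (by linear_combination -e1 - 2 * e2 - e3)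
  have h5 : (1 : F) = 0 := by
    linear_combination e1 + e2 + x i * u0 + y i * v0
  exact one_ne_zero h5

/-- **Split.** -/
theorem split [FiniteDimensional ℂ V] (hψ : ψ.IsPrimitive) (hF : Fintype.card F = 3) (hn : 3 ≤ n)
    (hρ : ρ.IsIrreducible) (hE : 4 * finrank ℂ V + 1 = 9 ^ n) {i k : Fin n} (hik : i ≠ k) :
    (finrank ℂ (Wt ρ ψ (TU 1 (-1) (Pi.single i 1) (Pi.single k 1))) = 1 ∧
      ∀ w ∈ Wt ρ ψ (TU 1 1 (Pi.single i 1) (Pi.single k 1)), w = 0) ∨
    ((∃ v ∈ Wt ρ ψ (TU 1 1 (Pi.single i 1) (Pi.single k 1)), v ≠ 0) ∧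
      ∀ w ∈ Wt ρ ψ (TU 1 (-1) (Pi.single i 1) (Pi.single k 1)), w = 0) := by
  have h2 := two_ne hF
  have hR := rkTwo (ρ := ρ) hψ hF hn hE
  have hX : 27 ≤ 3 ^ n := by
    calc 27 = 3 ^ 3 := by norm_num
      _ ≤ 3 ^ n := Nat.pow_le_pow_right (by norm_num) hn
  have h9 : 9 ^ n = 3 ^ n * 3 ^ n := by
    rw [← mul_pow]; norm_num
  have hnot : ¬ RkOne ρ ψ := by
    intro h1
    have h3 := rkOne_le hψ h2 (by omega) hρ h1
    rw [hF] at h3
    rw [h9] at hE
    nlinarith
  unfold RkOne at hnot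
  push Not at hnot
  obtain ⟨T, hT, v, hv, hne, x, y, z, w, hm⟩ := hnot
  obtain ⟨h, hh⟩ := class_two hF hR hT hv hne hm hik
  have h3 := two_orbits (ρ := ρ) hψ h2 (aniso_hyp_disjoint hF hik)
  have c1 := card_aniso (n := n) hF (by omega) hik
  have c2 := card_hyp (n := n) hF (by omega) hik
  set A := Nat.card (Ob (TU 1 1 (Pi.single i 1) (Pi.single k 1) : Matrix (Fin n) (Fin n) F))
  set B := Nat.card (Ob (TU 1 (-1) (Pi.single i 1) (Pi.single k 1) : Matrix (Fin n) (Fin n) F))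
  set a := finrank ℂ (Wt ρ ψ (TU 1 1 (Pi.single i 1) (Pi.single k 1)))
  set b := finrank ℂ (Wt ρ ψ (TU 1 (-1) (Pi.single i 1) (Pi.single k 1)))
  obtain ⟨Y, hY⟩ : ∃ Y, 3 ^ n = Y + 3 := ⟨3 ^ n - 3, by omega⟩
  rw [hY] at c1 c2 h9 hX
  have e1 : Y + 3 - 1 = Y + 2 := by omega
  have e2 : Y + 3 - 3 = Y := by omega
  rw [e1, e2] at c1 c2
  rw [h9] at hE
  have hab : a + 2 * b ≤ 2 := by
    by_contra hc
    have hc' : 3 ≤ a + 2 * b := by omega
    have k1 : (a + 2 * b) * ((Y + 2) * Y) ≤ 8 * finrank ℂ V := by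
      have l1 : a * ((Y + 2) * Y) ≤ a * (8 * A) := Nat.mul_le_mul le_rfl c1
      have l2 : b * ((Y + 2) * Y) ≤ b * (4 * B) := Nat.mul_le_mul le_rfl c2
      nlinarith
    have k2 : 3 * ((Y + 2) * Y) ≤ 8 * finrank ℂ V :=
      (Nat.mul_le_mul hc' le_rfl).trans k1
    nlinarith
  have hv' := mm_mem_Wt h hv
  have hne' : ρ (mm h) v ≠ 0 := by
    intro h0
    exact hne (rho_inj (ρ := ρ) (mm h) (by rw [h0, map_zero]))
  have hz : ∀ {U : Submodule ℂ V}, finrank ℂ U = 0 → ∀ w ∈ U, w = 0 := by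
    intro U hU w hw
    rw [Submodule.finrank_eq_zero] at hU
    rw [hU] at hw
    exact (Submodule.mem_bot ℂ).mp hw
  rcases hh with hh | hh
  · right
    rw [hh] at hv'
    have ha : a ≠ 0 := fun h0 => hne' (hz h0 _ hv')
    exact ⟨⟨_, hv', hne'⟩, hz (show b = 0 by omega)⟩
  · left
    rw [hh] at hv'
    have hb : b ≠ 0 := fun h0 => hne' (hz h0 _ hv')
    exact ⟨show b = 1 by omega, hz (show a = 0 by omega)⟩

end Cfsg.Agent.H495.TI
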